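import Groth.Agent.DRingPC.TorAmpOps
import Groth.Agent.DRingPC.Restrict
import Mathlib.RingTheory.Unramified.Finite

/-!
# Tor amplitude and restriction of scalars along colimits of unramified algebras
-/

set_option autoImplicit false
set_option linter.style.haveILetI false
universe u

open CategoryTheory CategoryTheory.Limits CategoryTheory.MonoidalCategory
open Groth.Agent.PCohLib

attribute [local instance] HasDerivedCategory.standard

namespace Groth.Agent.TorAmpEt

open Groth.Agent.DRingPC

variable (R S : Type u) [CommRing R] [CommRing S] [Algebra R S]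

/-- `S` is exhausted by images of essentially finite type unramified `R`-algebras. -/
def IsUnramifiedExhausted : Prop :=
  ∀ s : Finset S, ∃ (C : Type u) (_ : CommRing C) (_ : Algebra R C) (_ : Algebra.FormallyUnramified R C)
    (_ : Algebra.EssFiniteType R C) (τ : C →ₐ[R] S), ∀ x ∈ s, x ∈ τ.range

variable {R S}

/-- An `R`-flat module over `S` is `S`-flat. -/
theorem flat_of_flat_restrict (h : IsUnramifiedExhausted R S) (M : Type u) [AddCommGroup M] [Module R M]
    [Module S M] [IsScalarTower R S M] [Module.Flat R M] : Module.Flat S M := by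
  classical
  refine Module.Flat.iff_forall_isTrivialRelation.mpr fun {l f x} hrel => ?_
  obtain ⟨C, _, _, _, _, τ, hτ⟩ := h (Finset.univ.image f)
  choose a ha using fun i => hτ (f i) (Finset.mem_image_of_mem f (Finset.mem_univ i))
  replace ha : ∀ i, τ (a i) = f i := ha
  letI : Module C M := Module.compHom M τ.toRingHom
  have hsm : ∀ (s : C) (z : M), s • z = τ s • z := fun s z => rfl
  haveI : IsScalarTower R C M := ⟨fun r c z => by
    rw [hsm, hsm, map_smul, smul_assoc]⟩
  haveI : Module.Flat C M := Algebra.FormallyUnramified.flat_of_restrictScalars R C M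
  obtain ⟨k, b, y, hy, hb⟩ := Module.Flat.isTrivialRelation_of_sum_smul_eq_zero
    (f := a) (x := x) (by simp only [hsm, ha]; exact hrel)
  refine ⟨k, fun i j => τ (b i j), y, fun i => ?_, fun j => ?_⟩
  · rw [hy i]
    exact Finset.sum_congr rfl fun j _ => hsm _ _
  · rw [← map_zero τ, ← hb j, map_sum]
    exact Finset.sum_congr rfl fun i _ => by rw [map_mul, ha]

section Amplitude

variable {A : Type u} [CommRing A]

/-- Bounded above flat representatives compute tor vanishing. -/
theorem torVanish_of_flat {K : Dual.D A} {E : DRing.Cx A} (hE : ∀ i, Module.Flat A (E.X i)) (b' : ℤ)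
    (hb' : ∀ i, b' < i → IsZero (E.X i)) (e : DerivedCategory.Q.obj E ≅ K) {a b : ℤ}
    (h : DRing.HasTorAmplitudeIn A a b K) : TorVanish E a b := by
  haveI : K.IsLE b' := (DerivedCategory.isLE_iff _ _).2 fun i hi =>
    ((HomologicalComplex.exactAt_iff_isZero_homology _ _).1
      (ShortComplex.exact_of_isZero_X₂ (E.sc i) (hb' i hi))).of_iso
      ((DerivedCategory.homologyFunctor _ i).mapIso e.symm ≪≫ homologyQIso E i)
  obtain ⟨P, hP, hPz, ⟨eP⟩⟩ := exists_projective_rep A K b'
  have hv := (torAmp_iff hP b' hPz eP a b).1 h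
  obtain ⟨f, hf⟩ := exists_Q_map_eq (P := PR A) (PR.lift A) P hP b' hPz E (eP.hom ≫ e.inv)
  haveI : QuasiIso f := by
    rw [← DerivedCategory.isIso_Q_map_iff_quasiIso, hf]
    infer_instance
  intro N i hi
  have hG : ∀ k, (CochainComplex.mappingCone f).ExactAt k := fun k => by
    have hn : NQ (k - 1) f := ⟨fun l _ => inferInstance, inferInstance⟩
    exact hn.exactFrom k (by lia)
  have hfl : ∀ k, Module.Flat A ((CochainComplex.mappingCone f).X k) := fun k => by
    haveI : Module.Flat A (P.X (k + 1)) := PR.toFL A (hP _)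
    haveI := hE k
    have h : Module.Flat A ((P.X (k + 1)) × (E.X k)) :=
      TFun.flat_middle (g := LinearMap.inl A (P.X (k + 1)) (E.X k))
        (f := LinearMap.snd A (P.X (k + 1)) (E.X k)) LinearMap.inl_injective
        Function.Exact.inl_snd LinearMap.snd_surjective
    exact (FL A).prop_of_iso (HomologicalComplex.homotopyCofiber.XIsoBiprod f k (k + 1) rfl ≪≫
      ModuleCat.biprodIsoProd _ _).symm (show FL A (ModuleCat.of A _) from h)
  have hT : NQ (i - 1) ((tcx N).map f) := by
    rw [NQ_iff_exactFrom]
    exact fun k _ => (exactAt_tensor_of_acyclic _ hfl b' (fun l hl => by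
      rw [CochainComplex.mappingCone.isZero_X_iff]
      exact ⟨hPz _ (by lia), hb' _ hl⟩) hG N k).of_iso
        (CochainComplex.mappingCone.mapHomologicalComplexIso f _)
  haveI := hT.1 i (by lia)
  rw [HomologicalComplex.exactAt_iff_isZero_homology]
  exact ((HomologicalComplex.exactAt_iff_isZero_homology _ i).1 (hv N i hi)).of_iso
    (asIso (HomologicalComplex.homologyMap ((tcx N).map f) i)).symm

theorem flat_opcMod_of_torVanish {E : DRing.Cx A} (hE : ∀ i, Module.Flat A (E.X i)) {a b : ℤ}
    (h : TorVanish E a b) : Module.Flat A (opcMod E a) := by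
  have hS := opcSC_shortExact E (a - 1) a (by lia) (exactAt_of_tensor_unit E _ (h _ _ (Or.inl (by lia))))
  exact flat_quotient hS (hE a) fun N =>
    (exactAt_tensor_iff E N (a - 1) a (by lia)).1 (h N _ (Or.inl (by lia)))

/-- Truncation of a bounded above flat representative. -/
theorem torAmp_of_flat_opc {P : DRing.Cx A} (hP : ∀ i, Module.Flat A (P.X i)) {a b : ℤ} (hab : a ≤ b)
    (hz : ∀ i, b < i → IsZero (P.X i)) (hex : ∀ i, i < a → P.ExactAt i)
    (hop : Module.Flat A (opcMod P a)) :
    DRing.HasTorAmplitudeIn A a b (DerivedCategory.Q.obj P) := by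
  haveI : P.IsGE a := (CochainComplex.isGE_iff _ _).2 hex
  refine ⟨P.truncGE a, fun i hi => ?_, fun i => ?_, ⟨(asIso (DerivedCategory.Q.map (P.πTruncGE a))).symm⟩⟩
  · rcases lt_trichotomy i a with h | rfl | h
    · exact (P.truncGE a).isZero_of_isStrictlyGE a i h
    · exact absurd hi (by lia)
    · exact (hz i (by lia)).of_iso (P.truncGEXIso a i h)
  · rcases lt_trichotomy i a with h | rfl | h
    · exact (FL A).prop_of_isZero ((P.truncGE a).isZero_of_isStrictlyGE a i h)
    · exact (FL A).prop_of_iso (opcModIso P i ≪≫ (P.truncGEXIsoOpcycles i).symm) hop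
    · exact (FL A).prop_of_iso (P.truncGEXIso a i h).symm (hP i)

end Amplitude

section Restrict

variable (R S)

theorem flat_restrict [Module.Flat R S] (M : ModuleCat.{u} S) (hM : Module.Flat S M) :
    Module.Flat R ((ModuleCat.restrictScalars (algebraMap R S)).obj M) := by
  letI : Module R M := Module.compHom _ (algebraMap R S)
  haveI : IsScalarTower R S M := IsScalarTower.of_algebraMap_smul fun _ _ => rfl
  exact Module.Flat.trans R S M

/-- Restriction along a flat map preserves tor amplitude. -/
theorem torAmp_restrict_of_flat [Module.Flat R S] {a b : ℤ} {K : Dual.D S}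
    (h : DRing.HasTorAmplitudeIn S a b K) :
    DRing.HasTorAmplitudeIn R a b ((DRing.restrictD (algebraMap R S)).obj K) := by
  obtain ⟨E, hz, hE, ⟨e⟩⟩ := h
  exact ⟨(DRing.restrictCx (algebraMap R S)).obj E,
    fun i hi => (ModuleCat.restrictScalars (algebraMap R S)).map_isZero (hz i hi),
    fun i => flat_restrict R S _ (hE i),
    ⟨(restrictQ (algebraMap R S) E).symm ≪≫ (DRing.restrictD (algebraMap R S)).mapIso e⟩⟩

variable {R S}

/-- Tor amplitude descends to a colimit of unramified algebras. -/
theorem torAmp_of_restrict [Module.Flat R S] (hu : IsUnramifiedExhausted R S) {a b : ℤ} {K : Dual.D S}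
    (h : DRing.HasTorAmplitudeIn R a b ((DRing.restrictD (algebraMap R S)).obj K)) :
    DRing.HasTorAmplitudeIn S a b K := by
  haveI := isLE_of_torAmp h
  haveI : K.IsLE b := isLE_of_restrict (algebraMap R S) K b
  obtain ⟨P, hP, hPz, ⟨e⟩⟩ := exists_projective_rep S K b
  let f := algebraMap R S
  have hv := torVanish_of_flat (E := (DRing.restrictCx f).obj P)
    (fun i => flat_restrict R S _ (PR.toFL S (hP i))) b
    (fun i hi => (ModuleCat.restrictScalars f).map_isZero (hPz i hi))
    ((restrictQ f P).symm ≪≫ (DRing.restrictD f).mapIso e) h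
  rcases lt_or_ge b a with hab | hab
  · refine torAmp_of_isZero (isZero_of_homology fun i => ?_) a b
    have hR : IsZero ((DerivedCategory.homologyFunctor (ModuleCat.{u} R) i).obj ((DRing.restrictD f).obj K)) := by
      obtain ⟨F, hFz, -, ⟨eF⟩⟩ := h
      exact ((HomologicalComplex.exactAt_iff_isZero_homology _ _).1
        (ShortComplex.exact_of_isZero_X₂ (F.sc i) (hFz i (by lia)))).of_iso
        ((DerivedCategory.homologyFunctor _ i).mapIso eF.symm ≪≫ homologyQIso F i)
    haveI := ModuleCat.subsingleton_of_isZero (hR.of_iso (restrictHD f K i).symm)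
    exact @ModuleCat.isZero_of_subsingleton _ _ _ ‹_›
  · refine torAmp_of_iso (torAmp_of_flat_opc (fun i => PR.toFL S (hP i)) hab hPz (fun i hi => ?_) ?_) e
    · have h1 := exactAt_of_tensor_unit _ i (hv _ i (Or.inl hi))
      rw [HomologicalComplex.exactAt_iff, ShortComplex.ShortExact.moduleCat_exact_iff_function_exact] at h1 ⊢
      exact h1
    · have h1 := flat_opcMod_of_torVanish (fun i => flat_restrict R S _ (PR.toFL S (hP i))) hv
      letI : Module R (P.X a) := Module.compHom _ f
      haveI : IsScalarTower R S (P.X a) := IsScalarTower.of_algebraMap_smul fun _ _ => rfl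
      haveI : Module.Flat R (P.X a ⧸ LinearMap.range (P.d (a - 1) a).hom) := by
        refine @Module.Flat.of_linearEquiv R (opcMod ((DRing.restrictCx f).obj P) a) _ _ _ _ _ _ h1 ?_
        exact (Submodule.Quotient.restrictScalarsEquiv R (LinearMap.range (P.d (a - 1) a).hom)).symm
      exact flat_of_flat_restrict hu (P.X a ⧸ LinearMap.range (P.d (a - 1) a).hom)

end Restrict

end Groth.Agent.TorAmpEt
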